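import Cfsg.Agent.Helper28.C1687.OrbData

set_option autoImplicit false

namespace Cfsg.Agent.Helper28.C1687

theorem orb2_8 : Cfsg.Agent.Helper28.ptChunk (Cfsg.Agent.Helper28.orbPt T 3510 subL 2816 ov2 op2 otp2 otw2) 2816 256 8 = true := by decide +kernel

theorem orb2_9 : Cfsg.Agent.Helper28.ptChunk (Cfsg.Agent.Helper28.orbPt T 3510 subL 2816 ov2 op2 otp2 otw2) 2816 256 9 = true := by decide +kernel

theorem orb2_10 : Cfsg.Agent.Helper28.ptChunk (Cfsg.Agent.Helper28.orbPt T 3510 subL 2816 ov2 op2 otp2 otw2) 2816 256 10 = true := by decide +kernel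

end Cfsg.Agent.Helper28.C1687
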