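import Cfsg.Agent.Helper28.TCO
import Cfsg.Agent.Helper28.C1687.Cert
import Cfsg.Agent.Helper28.C1687.Orb1_0
import Cfsg.Agent.Helper28.C1687.Orb2_0
import Cfsg.Agent.Helper28.C1687.Orb2_1

set_option autoImplicit false

namespace Cfsg.Agent.Helper28.C1687

theorem orb1_all : ∀ t, t < 693 → Cfsg.Agent.Helper28.orbPt T 3510 subL 693 ov1 op1 otp1 otw1 t = true :=
  Cfsg.Agent.Helper28.pts_of_chunks _ 693 256 3 (by decide) (by decide)
    (Cfsg.Agent.Helper28.allLt_succ _ 2 (Cfsg.Agent.Helper28.allLt_succ _ 1 (Cfsg.Agent.Helper28.allLt_succ _ 0 (Cfsg.Agent.Helper28.allLt_zero _) orb1_0) orb1_1) orb1_2)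

theorem ov1_lt : ov1 0 < 3510 := by decide +kernel

theorem orb2_all : ∀ t, t < 2816 → Cfsg.Agent.Helper28.orbPt T 3510 subL 2816 ov2 op2 otp2 otw2 t = true :=
  Cfsg.Agent.Helper28.pts_of_chunks _ 2816 256 11 (by decide) (by decide)
    (Cfsg.Agent.Helper28.allLt_succ _ 10 (Cfsg.Agent.Helper28.allLt_succ _ 9 (Cfsg.Agent.Helper28.allLt_succ _ 8 (Cfsg.Agent.Helper28.allLt_succ _ 7 (Cfsg.Agent.Helper28.allLt_succ _ 6 (Cfsg.Agent.Helper28.allLt_succ _ 5 (Cfsg.Agent.Helper28.allLt_succ _ 4 (Cfsg.Agent.Helper28.allLt_succ _ 3 (Cfsg.Agent.Helper28.allLt_succ _ 2 (Cfsg.Agent.Helper28.allLt_succ _ 1 (Cfsg.Agent.Helper28.allLt_succ _ 0 (Cfsg.Agent.Helper28.allLt_zero _) orb2_0) orb2_1) orb2_2) orb2_3) orb2_4) orb2_5) orb2_6) orb2_7) orb2_8) orb2_9) orb2_10)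

theorem ov2_lt : ov2 0 < 3510 := by decide +kernel

end Cfsg.Agent.Helper28.C1687
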